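import Groth.Agent.Lib.LimReg10.Weakly
import Groth.Agent.Lib.RegSeqLoc.BaseChange
import Groth.Agent.Lib.RegSeqLoc.AnyBaseChange
import Groth.Agent.Lib.SeqKinds.Basic
import Groth.Agent.Lib.LimDesc.Basic
import Groth.Agent.S5802
import Groth.Agent.S5803
import Groth.Agent.S9252
import Groth.Prelude.Def_RegImm

/-!
# Regular immersions and limits with flat affine transition maps
-/

set_option autoImplicit false
set_option linter.all false
set_option backward.isDefEq.respectTransparency false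
universe u

open CategoryTheory Limits AlgebraicGeometry RingTheory.Sequence TopologicalSpace

noncomputable section

namespace GrothLib.LimReg10

/-- Descent of an ideal generated by a regular sequence along a faithfully flat map to a Noetherian local ring. -/
theorem exists_isRegular_of_faithfullyFlat {A B : Type u} [CommRing A] [IsNoetherianRing A] [IsLocalRing A]
    [CommRing B] (φ : A →+* B) (hφ : φ.FaithfullyFlat) (J : Ideal A) (l : List B) (hl : IsRegular B l)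
    (hJ : J.map φ = Ideal.ofList l) : ∃ rs : List A, IsRegular A rs ∧ J = Ideal.ofList rs := by
  classical
  algebraize [φ]
  have hJt : J ≠ ⊤ := by
    intro h
    rw [h, Ideal.map_top] at hJ
    exact hl.top_ne_smul (by rw [← hJ, smul_eq_mul, Ideal.mul_top])
  have hloc : PP16.IsLocallyQuasiRegular B (J.map (algebraMap A B)) := by
    intro P _ _
    haveI : Module.Flat B (Localization.Away (1 : B)) := IsLocalization.flat _ (Submonoid.powers (1 : B))
    refine ⟨1, fun h => ‹P.IsPrime›.ne_top ((Ideal.eq_top_iff_one P).2 h), l.length,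
      algebraMap B (Localization.Away (1 : B)) ∘ l.get, ?_, ?_⟩
    · refine GrothLib.SeqKinds.isQuasiRegular_map _ (RingHom.flat_algebraMap_iff.2 inferInstance) _
        (Groth.Agent.S5802.result B _ _ ?_)
      rw [List.ofFn_get]
      exact hl.toIsWeaklyRegular
    · rw [Set.range_comp, ← Ideal.map_span, Set.range_list_get]
      exact congrArg (Ideal.map _) hJ.symm
  obtain ⟨g, hg, r, f, hf, hspan⟩ :=
    Groth.Agent.S9252.result A B J hloc (IsLocalRing.maximalIdeal A) (IsLocalRing.le_maximalIdeal hJt)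
  have hu : IsUnit g := IsLocalRing.notMem_maximalIdeal.1 hg
  let e : A ≃ₐ[A] Localization.Away g :=
    IsLocalization.atUnits A (Submonoid.powers g) (Submonoid.powers_le.2 hu)
  let f' : Fin r → A := e.symm.toRingEquiv.toRingHom ∘ f
  have hf' : CAlgX.IsQuasiRegular f' :=
    GrothLib.SeqKinds.isQuasiRegular_map _ (RingHom.Flat.of_bijective e.symm.toRingEquiv.bijective) _ hf
  have hspan' : Ideal.span (Set.range f') = J := by
    rw [Set.range_comp, ← Ideal.map_span, hspan, Ideal.map_map]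
    convert Ideal.map_id J
    refine RingHom.ext fun a => ?_
    show e.symm (algebraMap A _ a) = a
    rw [AlgEquiv.commutes]; rfl
  have hlist : Ideal.ofList (List.ofFn f') = J := by
    rw [← hspan', Ideal.ofList]; congr 1; ext; simp [List.mem_ofFn]
  refine ⟨List.ofFn f', ⟨Groth.Agent.S5803.result A r f' (fun i => ?_) hf', ?_⟩, hlist.symm⟩
  · rw [IsLocalRing.ringJacobson_eq_maximalIdeal]
    exact IsLocalRing.le_maximalIdeal hJt (hspan' ▸ Ideal.subset_span ⟨i, rfl⟩)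
  · rw [hlist, smul_eq_mul, Ideal.mul_top]
    exact hJt.symm

theorem isRegular_map_flat {A B : Type u} [CommRing A] [CommRing B] (φ : A →+* B) (hφ : φ.Flat)
    {rs : List A} (h : IsRegular A rs) (hne : Ideal.ofList (rs.map φ) ≠ ⊤) : IsRegular B (rs.map φ) :=
  ⟨isWeaklyRegular_map_flat φ hφ h.toIsWeaklyRegular, by rw [smul_eq_mul, Ideal.mul_top]; exact hne.symm⟩

variable {Z X Z' X' : Scheme.{u}}

theorem regularAt_pullback {i : Z ⟶ X} {g : X' ⟶ X} [Flat g] {i' : Z' ⟶ X'} {g' : Z' ⟶ Z}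
    (hsq : IsPullback g' i' i g) (z' : Z') (h : RegImm.IsRegularImmersionAt .regular i (g' z')) :
    RegImm.IsRegularImmersionAt .regular i' z' := by
  obtain ⟨U, hU, hci, rs, hrs, hker⟩ := h
  obtain ⟨V, hV, hci', ss, hss, hker'⟩ := GrothLib.RegSeqLoc.exists_equations_of_isPullback hsq U hci rs hker
    (fun R _ l => IsRegular R l) (fun R S _ _ φ l hφ hl hne => isRegular_map_flat φ hφ hl hne) hrs z' hU
  exact ⟨V, hV, hci', ss, hss, hker'⟩

theorem isOpen_regularAt (i : Z ⟶ X) (k : RegImm.Kind) :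
    IsOpen {z | RegImm.IsRegularImmersionAt k i z} := by
  refine isOpen_iff_forall_mem_open.2 fun z hz => ?_
  obtain ⟨U, hU, h⟩ := hz
  exact ⟨(i ⁻¹ᵁ U.1 : Z.Opens), fun y hy => ⟨U, hy, h⟩, (i ⁻¹ᵁ U.1).2, hU⟩

theorem flat_appLE (g : X' ⟶ X) [Flat g] {U : X.Opens} {V : X'.Opens} (hU : IsAffineOpen U)
    (hV : IsAffineOpen V) (e : V ≤ g ⁻¹ᵁ U) : (g.appLE U V e).hom.Flat :=
  HasRingHomProperty.appLE (P := @Flat) g ‹_› ⟨U, hU⟩ ⟨V, hV⟩ e

theorem flat_id_appLE {U V : X.Opens} (hU : IsAffineOpen U)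
    (hV : IsAffineOpen V) (e : V ≤ (𝟙 X) ⁻¹ᵁ U) : ((𝟙 X :).appLE U V e).hom.Flat :=
  flat_appLE (𝟙 X) hU hV e

/-- The restriction to a smaller affine open. -/
theorem ker_restrict (i : Z ⟶ X) (U : X.affineOpens) (hci : IsClosedImmersion (i ∣_ U.1))
    {V : X.Opens} (hV : IsAffineOpen V) (e : V ≤ (𝟙 X) ⁻¹ᵁ U.1) :
    IsClosedImmersion (i ∣_ V) ∧
      RingHom.ker (i.app V).hom = (RingHom.ker (i.app U.1).hom).map ((𝟙 X :).appLE U.1 V e).hom :=
  GrothLib.RegSeqLoc.ker_of_isPullback (g' := 𝟙 Z) (IsPullback.of_horiz_isIso ⟨by simp⟩) U hci hV e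

theorem germ_appLE (g : X' ⟶ X) {U : X.Opens} {V : X'.Opens} (e : V ≤ g ⁻¹ᵁ U) (y : X') (hy : y ∈ V) :
    (X'.presheaf.germ V y hy).hom.comp (g.appLE U V e).hom =
      (g.stalkMap y).hom.comp (X.presheaf.germ U (g y) (e hy)).hom := by
  refine RingHom.ext fun a => ?_
  show X'.presheaf.germ V y hy (X'.presheaf.map (homOfLE e).op (g.app U a)) =
    g.stalkMap y (X.presheaf.germ U (g y) (e hy) a)
  rw [TopCat.Presheaf.germ_res_apply, Scheme.Hom.germ_stalkMap_apply]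

theorem map_ker_le_maximal (i : Z ⟶ X) (z : Z) {V : X.Opens} (hz : i z ∈ V) :
    (RingHom.ker (i.app V).hom).map (X.presheaf.germ V (i z) hz).hom ≤ IsLocalRing.maximalIdeal _ := by
  rw [Ideal.map_le_iff_le_comap]
  intro a ha
  rw [Ideal.mem_comap, IsLocalRing.mem_maximalIdeal, mem_nonunits_iff]
  intro hu
  have h1 := hu.map (i.stalkMap z).hom
  rw [show (i.stalkMap z).hom ((X.presheaf.germ V (i z) hz).hom a) = Z.presheaf.germ (i ⁻¹ᵁ V) z hz (i.app V a)
    from Scheme.Hom.germ_stalkMap_apply i V z hz a, show i.app V a = 0 from ha, map_zero] at h1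
  exact not_isUnit_zero h1

/-- Descent of regularity at a point along a flat morphism with locally Noetherian target. -/
theorem regularAt_descend [IsLocallyNoetherian X] {i : Z ⟶ X} [IsImmersion i] {g : X' ⟶ X} [Flat g]
    {i' : Z' ⟶ X'} {g' : Z' ⟶ Z} (hsq : IsPullback g' i' i g) (z' : Z')
    (h : RegImm.IsRegularImmersionAt .regular i' z') : RegImm.IsRegularImmersionAt .regular i (g' z') := by
  obtain ⟨U, hzU, hci⟩ := GrothLib.RegSeqLoc.exists_affine_isClosedImmersion i (g' z')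
  obtain ⟨V', hzV', hci', rs, hrs, hker⟩ := h
  have hw : g (i' z') = i (g' z') := by rw [← Scheme.Hom.comp_apply, ← hsq.w]; rfl
  obtain ⟨V, hV, hzV, hVle⟩ := Opens.isBasis_iff_nbhd.1 X'.isBasis_affineOpens
    (show i' z' ∈ V'.1 ⊓ g ⁻¹ᵁ U.1 from ⟨hzV', by show g (i' z') ∈ U.1; rw [hw]; exact hzU⟩)
  have e : V ≤ g ⁻¹ᵁ U.1 := hVle.trans inf_le_right
  have e' : V ≤ (𝟙 X') ⁻¹ᵁ V'.1 := hVle.trans inf_le_left
  obtain ⟨-, h1⟩ := GrothLib.RegSeqLoc.ker_of_isPullback hsq U hci hV e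
  obtain ⟨-, h2⟩ := ker_restrict i' V' hci' hV e'
  rw [hker, Ideal.map_ofList] at h2
  let rs' := rs.map ((𝟙 X' :).appLE V'.1 V e').hom
  have hw' : IsWeaklyRegular Γ(X', V) rs' :=
    isWeaklyRegular_map_flat _ (flat_appLE _ V'.2 hV e') hrs.toIsWeaklyRegular
  let l := rs'.map (X'.presheaf.germ V (i' z') hzV).hom
  have hle : Ideal.ofList l ≤ IsLocalRing.maximalIdeal _ := by
    rw [← Ideal.map_ofList, ← h2]; exact map_ker_le_maximal i' z' hzV
  have hl := GrothLib.RegSeqLoc.isRegular_stalk hV hzV hw' hle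
  let J : Ideal (X.presheaf.stalk (g (i' z'))) :=
    (RingHom.ker (i.app U.1).hom).map (X.presheaf.germ U.1 (g (i' z')) (e hzV)).hom
  have hJ : J.map (g.stalkMap (i' z')).hom = Ideal.ofList l := by
    rw [← Ideal.map_ofList, ← h2, h1, Ideal.map_map, Ideal.map_map, germ_appLE g e (i' z') hzV]
  obtain ⟨ss, hss, hJss⟩ := exists_isRegular_of_faithfullyFlat _ (faithfullyFlat_stalkMap g (i' z')) J l hl hJ
  haveI : IsNoetherianRing Γ(X, U.1) := IsLocallyNoetherian.component_noetherian U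
  obtain ⟨b, hb, rs'', hrs'', hI⟩ := GrothLib.RegSeqLoc.exists_basicOpen_isRegular U.2 (e hzV)
    (RingHom.ker (i.app U.1).hom) ss hss hJss
  obtain ⟨hci'', h3⟩ := ker_restrict i U hci (U.2.basicOpen b) (X.basicOpen_le b)
  refine ⟨⟨X.basicOpen b, U.2.basicOpen b⟩, ?_, hci'', rs'', hrs'', ?_⟩
  · show i (g' z') ∈ X.basicOpen b
    rw [← hw]; exact hb
  · rw [h3, ← hI]
    congr 1

/-- Faithful flatness over an affine open. -/
theorem faithfullyFlat_appLE (g : X' ⟶ X) [Flat g] [Surjective g] {U : X.Opens} (hU : IsAffineOpen U)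
    (hV : IsAffineOpen (g ⁻¹ᵁ U)) : (g.appLE U (g ⁻¹ᵁ U) le_rfl).hom.FaithfullyFlat := by
  rw [RingHom.FaithfullyFlat.iff_flat_and_comap_surjective]
  refine ⟨flat_appLE g hU hV le_rfl, fun P => ?_⟩
  have hy : hU.fromSpec P ∈ U := hU.range_fromSpec.le ⟨P, rfl⟩
  obtain ⟨x, hx⟩ := g.surjective (hU.fromSpec P)
  have hxV : x ∈ g ⁻¹ᵁ U := by show g x ∈ U; rw [hx]; exact hy
  refine ⟨hV.primeIdealOf ⟨x, hxV⟩, ?_⟩
  refine (IsAffineOpen.comap_primeIdealOf_appLE U hU _ hV le_rfl hxV).trans ?_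
  apply hU.fromSpec.isOpenEmbedding.injective
  rw [hU.fromSpec_primeIdealOf]
  exact hx

variable {I : Type u} [SmallCategory I] [IsCofiltered I] (D : I ⥤ Scheme.{u}) {c : Cone D}
  (hc : IsLimit c) [∀ (i j : I) (f : i ⟶ j), IsAffineHom (D.map f)] {i₀ : I}
  (hflat : ∀ (i j : I) (f : i ⟶ j), Flat (D.map f))
  {X₀ : Scheme.{u}} (j₀ : X₀ ⟶ D.obj i₀)

open GrothLib.LimDesc

theorem isPullback_coneπ (k : Over i₀) :
    IsPullback ((cone D i₀ j₀ (IsPullback.of_hasPullback j₀ (c.π.app i₀))).π.app k)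
      (pullback.snd j₀ (c.π.app i₀)) (pullback.snd j₀ (D.map k.hom)) (c.π.app k.left) := by
  refine IsPullback.of_right ?_ (π_snd D i₀ j₀ _ k) (IsPullback.of_hasPullback j₀ (D.map k.hom))
  rw [π_fst, c.w]
  exact IsPullback.of_hasPullback j₀ (c.π.app i₀)

include hc hflat in
/-- A point of regularity comes from a stage. -/
theorem exists_stage_regularAt [IsImmersion j₀]
    (hcase : (∀ i : I, IsLocallyNoetherian (D.obj i)) ∨ ∀ (i j : I) (f : i ⟶ j), Surjective (D.map f))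
    (z : ↥(pullback j₀ (c.π.app i₀))) (h : RegImm.IsRegularImmersionAt .regular (pullback.snd j₀ (c.π.app i₀)) z) :
    ∃ k : Over i₀, RegImm.IsRegularImmersionAt .regular (pullback.snd j₀ (D.map k.hom))
      ((cone D i₀ j₀ (IsPullback.of_hasPullback j₀ (c.π.app i₀))).π.app k z) := by
  have hπ : ∀ i, Flat (c.π.app i) := fun i => GrothLib.ConsLim.flat_π hc i fun j φ => hflat j i φ
  rcases hcase with hN | hS
  · refine ⟨Over.mk (𝟙 i₀), ?_⟩
    haveI := hN i₀
    haveI : IsImmersion (pullback.snd j₀ (D.map (Over.mk (𝟙 i₀)).hom)) := inferInstance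
    haveI := hπ i₀
    exact regularAt_descend (isPullback_coneπ D j₀ (Over.mk (𝟙 i₀))) z h
  · obtain ⟨U₀, hzU₀, hci₀⟩ := GrothLib.RegSeqLoc.exists_affine_isClosedImmersion j₀
      (pullback.fst j₀ (c.π.app i₀) z)
    obtain ⟨V, hzV, hciV, rs, hrs, hker⟩ := h
    set p := pullback.snd j₀ (c.π.app i₀) z with hp
    have hp0 : c.π.app i₀ p ∈ U₀.1 := by
      rw [hp, ← Scheme.Hom.comp_apply, ← pullback.condition]; exact hzU₀
    obtain ⟨_, ⟨j, Uj, hUj, rfl⟩, hpUj, hle⟩ := Opens.isBasis_iff_nbhd.1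
      (isBasis_preimage_isAffineOpen D c hc) (show p ∈ V.1 ⊓ c.π.app i₀ ⁻¹ᵁ U₀.1 from ⟨hzV, hp0⟩)
    let k := IsCofiltered.min j i₀
    let a : k ⟶ j := IsCofiltered.minToLeft j i₀
    let b : k ⟶ i₀ := IsCofiltered.minToRight j i₀
    let Uk := D.map a ⁻¹ᵁ Uj
    have hUk : IsAffineOpen Uk := hUj.preimage (D.map a)
    have hW : c.π.app k ⁻¹ᵁ Uk = c.π.app j ⁻¹ᵁ Uj := by
      rw [← Scheme.Hom.comp_preimage, c.w]
    have hpW : p ∈ c.π.app k ⁻¹ᵁ Uk := by rw [hW]; exact hpUj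
    haveI := isAffineHom_π_app D c hc k
    have hWaff : IsAffineOpen (c.π.app k ⁻¹ᵁ Uk) := hUk.preimage _
    have eV : c.π.app k ⁻¹ᵁ Uk ≤ (𝟙 c.pt) ⁻¹ᵁ V.1 := hW.le.trans (hle.trans inf_le_left)
    obtain ⟨-, hkerW⟩ := ker_restrict _ V hciV hWaff eV
    rw [hker, Ideal.map_ofList] at hkerW
    let rsW := rs.map ((𝟙 c.pt :).appLE V.1 (c.π.app k ⁻¹ᵁ Uk) eV).hom
    have hwW : IsWeaklyRegular Γ(c.pt, c.π.app k ⁻¹ᵁ Uk) rsW :=
      isWeaklyRegular_map_flat _ (flat_id_appLE V.2 hWaff eV) hrs.toIsWeaklyRegular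
    have hkerW2 : RingHom.ker ((pullback.snd j₀ (c.π.app i₀)).app (c.π.app k ⁻¹ᵁ Uk)).hom = Ideal.ofList rsW :=
      hkerW
    obtain ⟨m, φ, t, ht⟩ := GrothLib.ConsLim.exists_common_lift hc hUk rsW.get
    let K : Over i₀ := Over.mk (φ ≫ b)
    let Um : (D.obj m).Opens := D.map φ ⁻¹ᵁ Uk
    have hUm : IsAffineOpen Um := hUk.preimage (D.map φ)
    haveI := isAffineHom_π_app D c hc m
    have hWm : IsAffineOpen (c.π.app m ⁻¹ᵁ Um) := hUm.preimage _
    have hWeq : c.π.app m ⁻¹ᵁ Um = c.π.app k ⁻¹ᵁ Uk := by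
      rw [← Scheme.Hom.comp_preimage, c.w]
    haveI := hπ m
    haveI : Surjective (c.π.app m) := GrothLib.ConsLim.surjective_π hc m fun l ψ => hS l m ψ
    have eUm : Um ≤ D.map K.hom ⁻¹ᵁ U₀.1 := by
      intro y hy
      obtain ⟨x, rfl⟩ := (c.π.app m).surjective y
      have hx : x ∈ c.π.app m ⁻¹ᵁ Um := hy
      rw [hWeq, hW] at hx
      show (c.π.app m ≫ D.map (φ ≫ b)) x ∈ U₀.1
      rw [c.w]
      exact (hle hx).2
    obtain ⟨hciM, hkerM⟩ := GrothLib.RegSeqLoc.ker_of_isPullback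
      (IsPullback.of_hasPullback j₀ (D.map K.hom)) U₀ hci₀ hUm eUm
    have hsq := isPullback_coneπ D (c := c) j₀ K
    have eW : c.π.app k ⁻¹ᵁ Uk ≤ c.π.app m ⁻¹ᵁ Um := hWeq.ge
    obtain ⟨-, hkerW'⟩ := GrothLib.RegSeqLoc.ker_of_isPullback hsq ⟨Um, hUm⟩ hciM hWaff eW
    let ψ : Γ(D.obj m, Um) →+* Γ(c.pt, c.π.app k ⁻¹ᵁ Uk) := ((c.π.app m).appLE Um _ eW).hom
    have hψ : ψ.FaithfullyFlat := by
      have key : ∀ (W : c.pt.Opens) (hW' : W = c.π.app m ⁻¹ᵁ Um) (e : W ≤ c.π.app m ⁻¹ᵁ Um),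
          ((c.π.app m).appLE Um W e).hom.FaithfullyFlat := by
        rintro _ rfl e; exact faithfullyFlat_appLE _ hUm hWm
      exact key _ hWeq.symm eW
    have hmap : (List.ofFn t).map ψ = rsW := by
      rw [List.map_ofFn]
      conv_rhs => rw [← List.ofFn_get rsW]
      exact congrArg List.ofFn (funext fun n => ht n)
    refine ⟨K, ⟨Um, hUm⟩, ?_, hciM, List.ofFn t, ?_, ?_⟩
    · show ((cone D i₀ j₀ _).π.app K ≫ pullback.snd j₀ (D.map K.hom)) z ∈ Um
      rw [hsq.w]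
      exact eW hpW
    · refine ⟨isWeaklyRegular_of_map ψ hψ (by rw [hmap]; exact hwW), fun htop => ?_⟩
      rw [smul_eq_mul, Ideal.mul_top] at htop
      have h1 : Ideal.ofList rsW = ⊤ := by
        rw [← hmap, ← Ideal.map_ofList]
        exact (congrArg (Ideal.map ψ) htop).symm.trans (Ideal.map_top _)
      rw [← hkerW2] at h1
      have h2 := map_ker_le_maximal (pullback.snd j₀ (c.π.app i₀)) z hpW
      rw [h1, Ideal.map_top] at h2
      exact (IsLocalRing.maximalIdeal.isMaximal _).ne_top (top_le_iff.1 h2)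
    · have heq : (RingHom.ker (Scheme.Hom.app (pullback.snd j₀ (D.map K.hom)) Um).hom).map ψ =
          (Ideal.ofList (List.ofFn t)).map ψ := by
        rw [Ideal.map_ofList, hmap, ← hkerW2, hkerW']
        rfl
      letI := ψ.toAlgebra
      haveI : Module.FaithfullyFlat Γ(D.obj m, Um) Γ(c.pt, c.π.app k ⁻¹ᵁ Uk) := hψ
      have h3 := congrArg (Ideal.comap (algebraMap Γ(D.obj m, Um) Γ(c.pt, c.π.app k ⁻¹ᵁ Uk))) heq
      rwa [← RingHom.algebraMap_toAlgebra ψ, Ideal.comap_map_eq_self_of_faithfullyFlat,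
        Ideal.comap_map_eq_self_of_faithfullyFlat] at h3

include hc hflat in
/-- An immersion is regular over the limit iff it is regular at some stage. -/
theorem isRegularImmersion_iff_exists [IsImmersion j₀] [CompactSpace X₀]
    (hcase : (∀ i : I, IsLocallyNoetherian (D.obj i)) ∨ ∀ (i j : I) (f : i ⟶ j), Surjective (D.map f)) :
    RegImm.IsRegularImmersion .regular (pullback.snd j₀ (c.π.app i₀)) ↔
      ∃ (j : I) (φ : j ⟶ i₀), RegImm.IsRegularImmersion .regular (pullback.snd j₀ (D.map φ)) := by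
  let cX := cone D i₀ j₀ (IsPullback.of_hasPullback j₀ (c.π.app i₀))
  let F := diag D i₀ j₀
  constructor
  · rintro ⟨-, h⟩
    let O : ∀ k : Over i₀, (F.obj k).Opens :=
      fun k => ⟨_, isOpen_regularAt (pullback.snd j₀ (D.map k.hom)) .regular⟩
    have hO : ∀ {k l : Over i₀} (ψ : k ⟶ l), F.map ψ ⁻¹ᵁ O l ≤ O k := fun {k l} ψ y hy => by
      haveI := hflat _ _ ψ.left
      exact regularAt_pullback (isPullback_map D i₀ j₀ ψ) y hy
    haveI : ∀ {k l : Over i₀} (ψ : k ⟶ l), IsAffineHom (F.map ψ) := fun ψ => isAffineHom_map D i₀ j₀ ψ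
    haveI : ∀ k, CompactSpace (F.obj k) := fun k => compactSpace_obj D i₀ j₀ k
    haveI : CompactSpace ↥(pullback j₀ (c.π.app i₀)) := by
      haveI := isAffineHom_π_app D c hc i₀
      haveI : IsAffineHom (pullback.fst j₀ (c.π.app i₀)) := MorphismProperty.pullback_fst _ _ inferInstance
      exact QuasiCompact.compactSpace_of_compactSpace (pullback.fst j₀ (c.π.app i₀))
    obtain ⟨T, hT⟩ := isCompact_univ.elim_finite_subcover
      (fun k : Over i₀ => ((show (pullback j₀ (c.π.app i₀)).Opens from cX.π.app k ⁻¹ᵁ O k) :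
        Set ↥(pullback j₀ (c.π.app i₀))))
      (fun k => (cX.π.app k ⁻¹ᵁ O k).2)
      (fun z _ => Set.mem_iUnion.2 (exists_stage_regularAt D hc hflat j₀ hcase z (h z)))
    obtain ⟨m, hm⟩ := IsCofiltered.inf_objs_exists T
    have hmtop : cX.π.app m ⁻¹ᵁ O m = ⊤ := by
      refine top_le_iff.1 fun x _ => ?_
      obtain ⟨k, hk, hxk⟩ := Set.mem_iUnion₂.1 (hT (Set.mem_univ x))
      obtain ⟨ψ⟩ := hm hk
      refine hO ψ ?_
      show (cX.π.app m ≫ F.map ψ) x ∈ O k
      rw [Cone.w]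
      exact hxk
    obtain ⟨n, ψ, hn⟩ := exists_map_eq_top F cX
      (isLimitCone D i₀ j₀ (IsPullback.of_hasPullback j₀ (c.π.app i₀)) hc) (O m) hmtop
    exact ⟨n.left, n.hom, inferInstance, fun y => hO ψ (hn.ge (Set.mem_univ y))⟩
  · rintro ⟨j, φ, -, h⟩
    refine ⟨inferInstance, fun z => ?_⟩
    haveI : Flat (c.π.app (Over.mk φ).left) := GrothLib.ConsLim.flat_π hc j fun l ψ => hflat l j ψ
    exact regularAt_pullback (isPullback_coneπ D j₀ (Over.mk φ)) z (h _)

end GrothLib.LimReg10
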