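import Groth.Agent.Lib.RegSeqLoc.Basic
import Groth.Agent.Lib.ConsLim.LimFlat
import Mathlib.RingTheory.Regular.Flat
import Mathlib.RingTheory.Flat.FaithfullyFlat.Algebra

/-!
# Weakly regular global sections and limits with flat affine transition maps
-/

set_option autoImplicit false
set_option linter.all false
set_option backward.isDefEq.respectTransparency false
universe u

open CategoryTheory Limits AlgebraicGeometry RingTheory.Sequence TopologicalSpace

noncomputable section

namespace GrothLib.LimReg10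

theorem isWeaklyRegular_map_flat {A B : Type u} [CommRing A] [CommRing B] (φ : A →+* B) (hφ : φ.Flat)
    {rs : List A} (h : IsWeaklyRegular A rs) : IsWeaklyRegular B (rs.map φ) := by
  algebraize [φ]
  exact h.of_flat

/-- Descent of weak regularity along faithfully flat ring maps. -/
theorem isWeaklyRegular_of_map {A B : Type u} [CommRing A] [CommRing B] (φ : A →+* B) (hφ : φ.FaithfullyFlat)
    {rs : List A} (h : IsWeaklyRegular B (rs.map φ)) : IsWeaklyRegular A rs := by
  rw [GrothLib.RegSeqLoc.isWeaklyRegular_iff_mem] at h ⊢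
  intro i hi x hx
  algebraize [φ]
  have h1 := Ideal.mem_map_of_mem φ hx
  rw [Ideal.map_ofList, List.map_take, map_mul] at h1
  have h2 := h i (by simpa using hi) (φ x) (by rw [List.getElem_map]; exact h1)
  rw [← List.map_take, ← Ideal.map_ofList] at h2
  have h3 : x ∈ ((Ideal.ofList (rs.take i)).map (algebraMap A B)).comap (algebraMap A B) := h2
  rwa [Ideal.comap_map_eq_self_of_faithfullyFlat] at h3

/-- A flat morphism gives faithfully flat maps of local rings. -/
theorem faithfullyFlat_stalkMap {X Y : Scheme.{u}} (f : X ⟶ Y) [Flat f] (x : X) :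
    (f.stalkMap x).hom.FaithfullyFlat := by
  have h : (f.stalkMap x).hom.Flat := Flat.stalkMap f x
  letI := (f.stalkMap x).hom.toAlgebra
  haveI : Module.Flat (Y.presheaf.stalk (f x)) (X.presheaf.stalk x) := h
  haveI : IsLocalHom (algebraMap (Y.presheaf.stalk (f x)) (X.presheaf.stalk x)) :=
    inferInstanceAs (IsLocalHom (f.stalkMap x).hom)
  exact (RingHom.faithfullyFlat_algebraMap_iff).2 Module.FaithfullyFlat.of_flat_of_isLocalHom

/-- Global sections weakly regular at a point. -/
def RegAt {X : Scheme.{u}} (fs : List Γ(X, ⊤)) (x : X) : Prop :=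
  IsWeaklyRegular (X.presheaf.stalk x) (fs.map (X.presheaf.germ ⊤ x trivial).hom)

theorem regAt_pullback_iff {X Y : Scheme.{u}} (f : X ⟶ Y) (fs : List Γ(Y, ⊤)) (x : X) :
    RegAt (fs.map f.appTop.hom) x ↔
      IsWeaklyRegular (X.presheaf.stalk x) ((fs.map (Y.presheaf.germ ⊤ (f x) trivial).hom).map (f.stalkMap x).hom) := by
  unfold RegAt
  rw [List.map_map, List.map_map]
  have : fs.map ((X.presheaf.germ ⊤ x trivial).hom ∘ f.appTop.hom) =
      fs.map ((f.stalkMap x).hom ∘ (Y.presheaf.germ ⊤ (f x) trivial).hom) := by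
    refine List.map_congr_left fun a _ => ?_
    exact (Scheme.Hom.germ_stalkMap_apply f ⊤ x trivial a).symm
  rw [this]

theorem RegAt.pullback {X Y : Scheme.{u}} (f : X ⟶ Y) [Flat f] {fs : List Γ(Y, ⊤)} {x : X}
    (h : RegAt fs (f x)) : RegAt (fs.map f.appTop.hom) x :=
  (regAt_pullback_iff f fs x).2 (isWeaklyRegular_map_flat _ (Flat.stalkMap f x) h)

theorem RegAt.descend {X Y : Scheme.{u}} (f : X ⟶ Y) [Flat f] {fs : List Γ(Y, ⊤)} {x : X}
    (h : RegAt (fs.map f.appTop.hom) x) : RegAt fs (f x) :=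
  isWeaklyRegular_of_map _ (faithfullyFlat_stalkMap f x) ((regAt_pullback_iff f fs x).1 h)

theorem germ_res_map {X : Scheme.{u}} (fs : List Γ(X, ⊤)) {U : X.Opens} (x : X) (hx : x ∈ U) :
    (fs.map (fun f => (X.presheaf.map (homOfLE (le_top : U ≤ ⊤)).op).hom f)).map (X.presheaf.germ U x hx).hom =
      fs.map (X.presheaf.germ ⊤ x trivial).hom := by
  rw [List.map_map]
  refine List.map_congr_left fun a _ => ?_
  exact TopCat.Presheaf.germ_res_apply X.presheaf _ x hx a

/-- Weak regularity over all affine opens is weak regularity at all points. -/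
theorem forall_affine_iff {X : Scheme.{u}} (fs : List Γ(X, ⊤)) :
    (∀ U : X.affineOpens, IsWeaklyRegular Γ(X, U.1)
        (fs.map (fun f => (X.presheaf.map (homOfLE (le_top : U.1 ≤ ⊤)).op).hom f))) ↔ ∀ x, RegAt fs x := by
  constructor
  · intro h x
    obtain ⟨U, hU, hx, -⟩ := Opens.isBasis_iff_nbhd.1 X.isBasis_affineOpens (show x ∈ (⊤ : X.Opens) from trivial)
    letI : Algebra Γ(X, U) (X.presheaf.stalk x) :=
      TopCat.Presheaf.algebra_section_stalk X.presheaf (⟨x, hx⟩ : U)
    haveI : IsLocalization.AtPrime (X.presheaf.stalk x) (hU.primeIdealOf ⟨x, hx⟩).asIdeal :=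
      hU.isLocalization_stalk ⟨x, hx⟩
    have h1 := IsWeaklyRegular.of_isLocalization (S := X.presheaf.stalk x)
      (hU.primeIdealOf ⟨x, hx⟩).asIdeal.primeCompl (h ⟨U, hU⟩)
    unfold RegAt
    rw [← germ_res_map fs x hx]
    exact h1
  · intro h U
    obtain ⟨U, hU⟩ := U
    rw [GrothLib.RegSeqLoc.isWeaklyRegular_iff_mem]
    intro i hi a ha
    set rs := fs.map (fun f => (X.presheaf.map (homOfLE (le_top : U ≤ ⊤)).op).hom f) with hrs
    by_contra hna
    let K : Ideal Γ(X, U) := Submodule.comap (LinearMap.mulRight Γ(X, U) a) (Ideal.ofList (rs.take i))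
    have hK : K ≠ ⊤ := fun ht => hna (by simpa [K] using (Ideal.eq_top_iff_one K).1 ht)
    obtain ⟨P, hP, hKP⟩ := Ideal.exists_le_maximal K hK
    let y : PrimeSpectrum Γ(X, U) := ⟨P, hP.isPrime⟩
    have hy : hU.fromSpec y ∈ U := hU.range_fromSpec.le ⟨y, rfl⟩
    letI : Algebra Γ(X, U) (X.presheaf.stalk (hU.fromSpec y)) :=
      TopCat.Presheaf.algebra_section_stalk X.presheaf (⟨hU.fromSpec y, hy⟩ : U)
    haveI : IsLocalization.AtPrime (X.presheaf.stalk (hU.fromSpec y)) y.asIdeal := hU.isLocalization_stalk' y hy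
    have hreg := h (hU.fromSpec y)
    unfold RegAt at hreg
    rw [← germ_res_map fs _ hy, GrothLib.RegSeqLoc.isWeaklyRegular_iff_mem] at hreg
    have h1 := Ideal.mem_map_of_mem (X.presheaf.germ U (hU.fromSpec y) hy).hom ha
    rw [Ideal.map_ofList, List.map_take, map_mul] at h1
    have h2 := hreg i (by simpa [hrs] using hi) _ (by rw [List.getElem_map]; exact h1)
    rw [← List.map_take, ← Ideal.map_ofList] at h2
    obtain ⟨s, hs, hsa⟩ := (IsLocalization.algebraMap_mem_map_algebraMap_iff y.asIdeal.primeCompl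
      (X.presheaf.stalk (hU.fromSpec y)) _ a).1 h2
    exact hs (hKP hsa)

/-- The locus of weak regularity is open. -/
theorem isOpen_regAt {X : Scheme.{u}} [IsLocallyNoetherian X] (fs : List Γ(X, ⊤)) :
    IsOpen {x | RegAt fs x} := by
  refine isOpen_iff_forall_mem_open.2 fun x hx => ?_
  obtain ⟨U, hU, hxU, -⟩ := Opens.isBasis_iff_nbhd.1 X.isBasis_affineOpens (show x ∈ (⊤ : X.Opens) from trivial)
  haveI : IsNoetherianRing Γ(X, U) := IsLocallyNoetherian.component_noetherian ⟨U, hU⟩
  letI : Algebra Γ(X, U) (X.presheaf.stalk x) :=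
    TopCat.Presheaf.algebra_section_stalk X.presheaf (⟨x, hxU⟩ : U)
  haveI hloc : IsLocalization.AtPrime (X.presheaf.stalk x) (hU.primeIdealOf ⟨x, hxU⟩).asIdeal :=
    hU.isLocalization_stalk ⟨x, hxU⟩
  set rs := fs.map (fun f => (X.presheaf.map (homOfLE (le_top : U ≤ ⊤)).op).hom f) with hrs
  have hreg : IsWeaklyRegular (X.presheaf.stalk x) (rs.map (algebraMap Γ(X, U) (X.presheaf.stalk x))) := by
    have h1 : RegAt fs x := hx
    unfold RegAt at h1
    rw [← germ_res_map fs x hxU] at h1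
    exact h1
  obtain ⟨g, hg, hgood⟩ := GrothLib.RegSeqLoc.exists_away_isWeaklyRegular
    (hU.primeIdealOf ⟨x, hxU⟩).asIdeal.primeCompl (X.presheaf.stalk x) rs hreg
  refine ⟨X.basicOpen g, fun y hy => ?_, (X.basicOpen g).2,
    (Scheme.mem_basicOpen _ _ x hxU).2 (IsLocalization.map_units (X.presheaf.stalk x) (⟨g, hg⟩ : (hU.primeIdealOf ⟨x, hxU⟩).asIdeal.primeCompl))⟩
  have hyU : y ∈ U := X.basicOpen_le g hy
  letI : Algebra Γ(X, U) (X.presheaf.stalk y) :=
    TopCat.Presheaf.algebra_section_stalk X.presheaf (⟨y, hyU⟩ : U)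
  haveI : IsLocalization.AtPrime (X.presheaf.stalk y) (hU.primeIdealOf ⟨y, hyU⟩).asIdeal :=
    hU.isLocalization_stalk ⟨y, hyU⟩
  have h2 := hgood (hU.primeIdealOf ⟨y, hyU⟩).asIdeal.primeCompl (X.presheaf.stalk y)
    ((Scheme.mem_basicOpen _ _ y hyU).1 hy)
  show RegAt fs y
  unfold RegAt
  rw [← germ_res_map fs y hyU]
  exact h2

/-- Weak regularity on the limit iff at some stage. -/
theorem main {I : Type u} [SmallCategory I] [IsCofiltered I] (D : I ⥤ Scheme.{u}) (c : Cone D) (hc : IsLimit c)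
    [∀ (i j : I) (f : i ⟶ j), IsAffineHom (D.map f)]
    (hflat : ∀ (i j : I) (f : i ⟶ j), Flat (D.map f))
    (hcase : (∀ i : I, IsLocallyNoetherian (D.obj i)) ∨ ∀ (i j : I) (f : i ⟶ j), Surjective (D.map f))
    (i₀ : I) [CompactSpace (D.obj i₀)] (fs : List Γ(D.obj i₀, ⊤)) :
    (∀ x, RegAt (fs.map (c.π.app i₀).appTop.hom) x) ↔
      ∃ (j : I) (φ : j ⟶ i₀), ∀ y, RegAt (fs.map (D.map φ).appTop.hom) y := by
  have hπ : ∀ i, Flat (c.π.app i) := fun i => GrothLib.ConsLim.flat_π hc i fun j φ => hflat j i φ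
  have hcomp : ∀ (j : I) (φ : j ⟶ i₀), fs.map (c.π.app i₀).appTop.hom =
      (fs.map (D.map φ).appTop.hom).map (c.π.app j).appTop.hom := by
    intro j φ
    rw [List.map_map]
    refine List.map_congr_left fun a _ => ?_
    rw [Function.comp_apply, ← CommRingCat.comp_apply, ← Scheme.Hom.comp_appTop, c.w]
    rfl
  constructor
  · intro h
    have hbase : ∀ x, RegAt fs (c.π.app i₀ x) := fun x => by
      haveI := hπ i₀
      exact RegAt.descend (c.π.app i₀) (h x)
    rcases hcase with hN | hS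
    · haveI := hN i₀
      let W : (D.obj i₀).Opens := ⟨_, isOpen_regAt fs⟩
      have hW : c.π.app i₀ ⁻¹ᵁ W = ⊤ := top_le_iff.1 fun x _ => hbase x
      let top : Over i₀ := Over.mk (𝟙 i₀)
      let F := Over.forget i₀ ⋙ D
      let c' : Cone F := c.whisker (Over.forget i₀)
      have hc' : IsLimit c' := (Functor.Initial.isLimitWhiskerEquiv (Over.forget i₀) c).symm hc
      haveI : ∀ {k l : Over i₀} (ψ : k ⟶ l), IsAffineHom (F.map ψ) := fun ψ => by
        show IsAffineHom (D.map _); infer_instance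
      haveI : ∀ k, CompactSpace (F.obj k) := fun k =>
        QuasiCompact.compactSpace_of_compactSpace (D.map k.hom)
      obtain ⟨k, ψ, hk⟩ := exists_map_eq_top F c' hc' (i := top) W hW
      refine ⟨k.left, ψ.left, fun y => ?_⟩
      haveI := hflat _ _ ψ.left
      exact RegAt.pullback (D.map ψ.left) (show F.map ψ y ∈ W from hk.ge (Set.mem_univ y))
    · haveI := GrothLib.ConsLim.surjective_π hc i₀ fun j φ => hS j i₀ φ
      refine ⟨i₀, 𝟙 i₀, fun y => ?_⟩
      obtain ⟨x, rfl⟩ := (c.π.app i₀).surjective y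
      haveI := hπ i₀
      have : fs.map (D.map (𝟙 i₀)).appTop.hom = fs := by simp
      rw [this]
      exact hbase x
  · rintro ⟨j, φ, hj⟩ x
    haveI := hπ j
    rw [hcomp j φ]
    exact RegAt.pullback (c.π.app j) (hj _)

end GrothLib.LimReg10
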